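import Mathlib
import Cfsg.Prelude.Def_SporadicB
import Cfsg.Agent.SporadicB.ThreeTrans
import Cfsg.Agent.SignalizersComponents.ComponentExists
import Cfsg.Agent.ThreeTrans375.Basic
set_option linter.all false

-- part: ThreeTrans375/Solv23
section
set_option autoImplicit false

/-! A finite group in which every element satisfies `q ^ 2 = 1` or `q ^ 3 = 1` is solvable. -/

namespace Cfsg.Agent.ThreeTrans375.Solv23

theorem solvable_of_cube {Q : Type*} [Group Q] [Finite Q] (h : ∀ q : Q, q ^ 3 = 1) : Group.IsSolvable Q := by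
  have : Fact (Nat.Prime 3) := ⟨Nat.prime_three⟩
  have hp : IsPGroup 3 Q := fun g => ⟨1, by simpa using h g⟩
  have := hp.isNilpotent
  infer_instance

theorem solvable_of_pow {Q : Type*} [Group Q] [Finite Q] (h : ∀ q : Q, q ^ 2 = 1 ∨ q ^ 3 = 1) :
    Group.IsSolvable Q := by
  classical
  -- centralizers of involutions consist of elements of square one
  have h1 : ∀ t : Q, t ≠ 1 → t ^ 2 = 1 → ∀ c : Q, Commute c t → c ^ 2 = 1 := by
    intro t ht ht2 c hct
    rcases h c with h2 | h2
    · exact h2
    rcases h (c * t) with h3 | h3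
    · rw [hct.mul_pow, ht2, mul_one] at h3
      exact h3
    · rw [hct.mul_pow, h2, one_mul] at h3
      exfalso
      apply ht
      have : t ^ 3 = t := by rw [pow_succ, ht2, one_mul]
      rw [← this, h3]
  have hcomm2 : ∀ a b : Q, a ^ 2 = 1 → b ^ 2 = 1 → (a * b) ^ 2 = 1 → Commute a b := by
    intro a b ha hb hab
    have ha' : a⁻¹ = a := by rw [inv_eq_iff_mul_eq_one, ← pow_two, ha]
    have hb' : b⁻¹ = b := by rw [inv_eq_iff_mul_eq_one, ← pow_two, hb]
    have hab' : (a * b)⁻¹ = a * b := by rw [inv_eq_iff_mul_eq_one, ← pow_two, hab]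
    show a * b = b * a
    rw [← hab', mul_inv_rev, ha', hb']
  -- two commuting distinct involutions `s t` and an involution `u` not commuting with `s`
  have key : ∀ s t u : Q, s ≠ 1 → t ≠ 1 → s ≠ t → s ^ 2 = 1 → t ^ 2 = 1 → u ^ 2 = 1 → Commute s t →
      Commute u s := by
    intro s t u hs ht hst hs2 ht2 hu2 hc
    by_contra hus
    have hinv : ∀ x : Q, x ^ 2 = 1 → x⁻¹ = x := by
      intro x hx; rw [inv_eq_iff_mul_eq_one, ← pow_two, hx]
    have hu1 : u ≠ 1 := by rintro rfl; exact hus (Commute.one_left s)
    -- u does not commute with t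
    have hut : ¬ Commute u t := by
      intro hut
      -- t commutes with s and u, so s, u, su all in C(t): squares are one
      have h2 : (u * s) ^ 2 = 1 := h1 t ht ht2 (u * s) (hut.mul_left hc)
      exact hus (hcomm2 u s hu2 hs2 h2)
    have hst1 : s * t ≠ 1 := by
      intro h2
      apply hst
      rw [mul_eq_one_iff_eq_inv, hinv t ht2] at h2
      exact h2
    have hst2 : (s * t) ^ 2 = 1 := by rw [hc.mul_pow, hs2, ht2, one_mul]
    have hust : ¬ Commute u (s * t) := by
      intro hust
      have hc' : Commute (s * t) s := by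
        show s * t * s = s * (s * t)
        rw [mul_assoc, ← hc.eq]
      have h2 : (u * s) ^ 2 = 1 := h1 (s * t) hst1 hst2 (u * s) (hust.mul_left hc'.symm)
      exact hus (hcomm2 u s hu2 hs2 h2)
    have braid : ∀ x : Q, x ^ 2 = 1 → ¬ Commute u x → u * x * u = x * u * x := by
      intro x hx hux
      rcases h (u * x) with h2 | h2
      · exact absurd (hcomm2 u x hu2 hx h2) hux
      · have h3 : u * x * u * (x * u * x) = 1 := by
          have : u * x * u * (x * u * x) = (u * x) ^ 3 := by
            rw [pow_succ, pow_two]; simp only [mul_assoc]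
          rw [this, h2]
        rw [eq_inv_of_mul_eq_one_left h3, mul_inv_rev, mul_inv_rev, hinv x hx, hinv u hu2, mul_assoc]
    have b1 := braid s hs2 hus
    have b2 := braid t ht2 hut
    have b3 := braid (s * t) hst2 hust
    have huu : u * u = 1 := by rw [← pow_two]; exact hu2
    have hss : s * s = 1 := by rw [← pow_two]; exact hs2
    have htt : t * t = 1 := by rw [← pow_two]; exact ht2
    -- s u s t u t = u s t u = s t u s t
    have e1 : s * u * s * (t * u * t) = s * t * u * (s * t) := by
      calc s * u * s * (t * u * t) = (u * s * u) * (u * t * u) := by rw [b1, b2]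
        _ = u * s * (u * u) * t * u := by simp only [mul_assoc]
        _ = u * (s * t) * u := by rw [huu, mul_one]; simp only [mul_assoc]
        _ = s * t * u * (s * t) := b3
    -- cancel s on the left, t on the right: u s t u = t u s
    have e2 : u * (s * t) * u = t * u * s := by
      have e3 : s * (u * (s * t) * u) * t = s * (t * u * s) * t := by
        calc s * (u * (s * t) * u) * t = s * u * s * (t * u * t) := by simp only [mul_assoc]
          _ = s * t * u * (s * t) := e1
          _ = s * (t * u * s) * t := by simp only [mul_assoc]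
      exact mul_left_cancel (mul_right_cancel e3)
    rw [b3] at e2
    -- s t u s t = t u s, and s t = t s: t s u s t = t u s => s u s t = u s => u s u t = u s => s u t = s
    have e4 : t * (s * u * s * t) = t * (u * s) := by
      calc t * (s * u * s * t) = (t * s) * u * (s * t) := by simp only [mul_assoc]
        _ = (s * t) * u * (s * t) := by rw [hc.eq]
        _ = t * u * s := e2
        _ = t * (u * s) := by rw [mul_assoc]
    have e5 := mul_left_cancel e4
    rw [← b1] at e5
    have e6 : u * s * (u * t) = u * s * 1 := by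
      calc u * s * (u * t) = u * s * u * t := by simp only [mul_assoc]
        _ = u * s * 1 := by rw [e5, mul_one]
    have e7 := mul_left_cancel e6
    have e8 : u = t := by
      rw [mul_eq_one_iff_eq_inv, hinv t ht2] at e7
      exact e7
    exact hut (e8 ▸ Commute.refl u)
  by_cases hI : ∃ s t : Q, s ≠ 1 ∧ t ≠ 1 ∧ s ≠ t ∧ s ^ 2 = 1 ∧ t ^ 2 = 1 ∧ Commute s t
  · -- all involutions commute
    obtain ⟨s, t, hs, ht, hst, hs2, ht2, hc⟩ := hI
    have hall : ∀ u v : Q, u ^ 2 = 1 → v ^ 2 = 1 → Commute u v := by
      intro u v hu hv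
      have hus := key s t u hs ht hst hs2 ht2 hu hc
      have hvs := key s t v hs ht hst hs2 ht2 hv hc
      have h2 : (u * v) ^ 2 = 1 := h1 s hs hs2 (u * v) (hus.mul_left hvs)
      exact hcomm2 u v hu hv h2
    let A : Subgroup Q :=
      { carrier := {q | q ^ 2 = 1}
        mul_mem' := by
          intro a b ha hb
          show (a * b) ^ 2 = 1
          have ha' : a ^ 2 = 1 := ha
          have hb' : b ^ 2 = 1 := hb
          rw [(hall a b ha hb).mul_pow, ha', hb', one_mul]
        one_mem' := one_pow 2
        inv_mem' := by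
          intro a ha
          show a⁻¹ ^ 2 = 1
          have ha' : a ^ 2 = 1 := ha
          rw [inv_pow, ha', inv_one] }
    have hAn : A.Normal := ⟨by
      intro a ha g
      show (g * a * g⁻¹) ^ 2 = 1
      have ha' : a ^ 2 = 1 := ha
      rw [conj_pow, ha']; group⟩
    have hA : Group.IsSolvable A := Group.isSolvable_of_comm fun a b => by
      apply Subtype.ext
      exact (hall a b a.2 b.2).eq
    have hQA : Group.IsSolvable (Q ⧸ A) := by
      apply solvable_of_cube
      intro q
      induction q using QuotientGroup.induction_on with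
      | H q =>
        rcases h q with h2 | h2
        · have : (q : Q ⧸ A) = 1 := (QuotientGroup.eq_one_iff q).2 h2
          rw [this, one_pow]
        · rw [← QuotientGroup.mk_pow, h2]; rfl
    exact Group.isSolvable_of_ker_le_range A.subtype (QuotientGroup.mk' A)
      (by rw [QuotientGroup.ker_mk', Subgroup.range_subtype])
  · push Not at hI
    by_cases hT : ∃ t : Q, t ≠ 1 ∧ t ^ 2 = 1
    swap
    · push Not at hT
      apply solvable_of_cube
      intro q
      rcases h q with h2 | h2
      · have : q = 1 := by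
          by_contra h3
          exact hT q h3 h2
        rw [this, one_pow]
      · exact h2
    · obtain ⟨t, ht, ht2⟩ := hT
      have : Fact (Nat.Prime 2) := ⟨Nat.prime_two⟩
      -- centralizer of t is {1, t}
      have hcent : ∀ c : Q, Commute c t → c = 1 ∨ c = t := by
        intro c hc
        by_contra h3
        push Not at h3
        have hc2 := h1 t ht ht2 c hc
        exact hI c t h3.1 ht h3.2 hc2 ht2 hc
      -- a Sylow 2-subgroup containing t
      have hP2 : IsPGroup 2 (Subgroup.zpowers t) := by
        rw [IsPGroup.iff_card]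
        refine ⟨1, ?_⟩
        rw [Nat.card_zpowers, pow_one]
        exact orderOf_eq_prime ht2 ht
      obtain ⟨P, hP⟩ := hP2.exists_le_sylow
      have htP : t ∈ P := hP (Subgroup.mem_zpowers t)
      have hPel : ∀ x ∈ P, x = 1 ∨ x = t := by
        intro x hx
        have hxp : x ^ 2 = 1 := by
          rcases h x with h2 | h2
          · exact h2
          · obtain ⟨k, hk⟩ := P.2 ⟨x, hx⟩
            have hk' : x ^ (2 ^ k) = 1 := by
              have := congrArg Subtype.val hk
              simpa using this
            have h3 : orderOf x ∣ 3 := orderOf_dvd_of_pow_eq_one h2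
            have h4 : orderOf x ∣ 2 ^ k := orderOf_dvd_of_pow_eq_one hk'
            have h5 : orderOf x ∣ Nat.gcd 3 (2 ^ k) := Nat.dvd_gcd h3 h4
            have h6 : Nat.gcd 3 (2 ^ k) = 1 := Nat.Coprime.pow_right k (by norm_num)
            rw [h6, Nat.dvd_one, orderOf_eq_one_iff] at h5
            rw [h5, one_pow]
        by_cases hx1 : x = 1
        · exact Or.inl hx1
        -- x t is in P, of order a power of two
        have hxt : (x * t) ^ 2 = 1 := by
          have hxtP : x * t ∈ P := P.mul_mem hx htP
          rcases h (x * t) with h2 | h2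
          · exact h2
          · obtain ⟨k, hk⟩ := P.2 ⟨x * t, hxtP⟩
            have hk' : (x * t) ^ (2 ^ k) = 1 := by
              have := congrArg Subtype.val hk
              simpa using this
            have h3 : orderOf (x * t) ∣ 3 := orderOf_dvd_of_pow_eq_one h2
            have h4 : orderOf (x * t) ∣ 2 ^ k := orderOf_dvd_of_pow_eq_one hk'
            have h5 : orderOf (x * t) ∣ Nat.gcd 3 (2 ^ k) := Nat.dvd_gcd h3 h4
            have h6 : Nat.gcd 3 (2 ^ k) = 1 := Nat.Coprime.pow_right k (by norm_num)
            rw [h6, Nat.dvd_one, orderOf_eq_one_iff] at h5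
            rw [h5, one_pow]
        exact hcent x (hcomm2 x t hxp ht2 hxt)
      have hN : Subgroup.normalizer (P : Set Q) ≤ Subgroup.centralizer (P : Set Q) := by
        intro g hg
        rw [Subgroup.mem_centralizer_iff]
        intro x hx
        rcases hPel x hx with rfl | rfl
        · simp
        · have h2 : g * x * g⁻¹ ∈ P := (Subgroup.mem_normalizer_iff.1 hg x).1 hx
          rcases hPel _ h2 with h3 | h3
          · exfalso; apply ht
            have : x = g⁻¹ * (g * x * g⁻¹) * g := by group
            rw [this, h3]; group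
          · rw [mul_inv_eq_iff_eq_mul] at h3
            exact h3.symm
      have hcompl := MonoidHom.ker_transferSylow_isComplement' P hN
      set K := (MonoidHom.transferSylow P hN).ker with hK
      have hKsol : Group.IsSolvable K := by
        apply solvable_of_cube
        intro k
        rcases h (k : Q) with h2 | h2
        · -- k is a 2-element of K: conjugate into P
          apply Subtype.ext
          have hk1 : (k : Q) = 1 := by
            by_contra hk
            have hkP : IsPGroup 2 (Subgroup.zpowers (k : Q)) := by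
              rw [IsPGroup.iff_card]
              refine ⟨1, ?_⟩
              rw [Nat.card_zpowers, pow_one]
              exact orderOf_eq_prime h2 hk
            obtain ⟨P', hP'⟩ := hkP.exists_le_sylow
            obtain ⟨g, hg⟩ := MulAction.exists_smul_eq Q P' P
            have h3 : g * (k : Q) * g⁻¹ ∈ P := by
              rw [← hg]
              have : (k : Q) ∈ P' := hP' (Subgroup.mem_zpowers _)
              exact Subgroup.smul_mem_pointwise_smul _ (MulAut.conj g) _ this
            have h4 : g * (k : Q) * g⁻¹ ∈ K := (MonoidHom.normal_ker _).conj_mem _ k.2 g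
            have h5 : g * (k : Q) * g⁻¹ = 1 := by
              have h6 := hcompl.disjoint
              rw [Subgroup.disjoint_def] at h6
              exact h6 h4 h3
            apply hk
            have : (k : Q) = g⁻¹ * (g * (k : Q) * g⁻¹) * g := by group
            rw [this, h5]; group
          rw [Subgroup.coe_pow, hk1]; simp
        · apply Subtype.ext
          simpa using h2
      have hPsol : Group.IsSolvable P := by
        have : Group.IsNilpotent P := P.2.isNilpotent
        infer_instance
      exact Group.isSolvable_of_ker_le_range K.subtype (MonoidHom.transferSylow P hN)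
        (by rw [Subgroup.range_subtype])

end Cfsg.Agent.ThreeTrans375.Solv23
end

-- part: ThreeTrans375/Blocks
section
set_option autoImplicit false

/-! The block theorem for classes of 3-transpositions. -/

namespace Cfsg.Agent.ThreeTrans375.Blocks

open Cfsg Cfsg.Agent.SporadicB.ThreeTrans Cfsg.Agent.ThreeTrans375.Basic

variable {G : Type*} [Group G] {D : Set G} {r : G → G → Prop}

/-- A conjugation-invariant equivalence relation on `D` such that an element `x` outside a block commutes with all
or none of the elements of the block. -/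
structure BlockSystem (D : Set G) (r : G → G → Prop) : Prop where
  refl : ∀ a ∈ D, r a a
  symm : ∀ a ∈ D, ∀ b ∈ D, r a b → r b a
  trans : ∀ a ∈ D, ∀ b ∈ D, ∀ c ∈ D, r a b → r b c → r a c
  conj : ∀ g : G, ∀ a ∈ D, ∀ b ∈ D, r a b → r (g * a * g⁻¹) (g * b * g⁻¹)
  total : ∀ a ∈ D, ∀ b ∈ D, ∀ x ∈ D, r a b → ¬ r a x → Commute x a → Commute x b

theorem not_commute_of_rel (hr : BlockSystem D r) {a a' b b' : G} (ha : a ∈ D) (ha' : a' ∈ D)
    (hb : b ∈ D) (hb' : b' ∈ D) (hab : ¬ r a b) (hc : ¬ Commute a b) (h1 : r a a') (h2 : r b b') :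
    ¬ Commute a' b' := by
  intro h
  have h3 : ¬ r a' b' := fun h' =>
    hab (hr.trans a ha a' ha' b hb h1 (hr.trans a' ha' b' hb' b hb h' (hr.symm b hb b' hb' h2)))
  have h4 : Commute b' a := hr.total a' ha' a ha b' hb' (hr.symm a ha a' ha' h1) h3 h.symm
  have h5 : ¬ r b' a := fun h' =>
    hab (hr.symm b hb a ha (hr.trans b hb b' hb' a ha h2 h'))
  have h6 : Commute a b := hr.total b' hb' b hb a ha (hr.symm b hb b' hb' h2) h5 h4.symm
  exact hc h6

theorem commute_of_rel (hr : BlockSystem D r) {a a' b b' : G} (ha : a ∈ D) (ha' : a' ∈ D)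
    (hb : b ∈ D) (hb' : b' ∈ D) (hab : ¬ r a b) (hc : Commute a b) (h1 : r a a') (h2 : r b b') :
    Commute a' b' := by
  by_contra h
  have h3 : ¬ r a' b' := fun h' =>
    hab (hr.trans a ha a' ha' b hb h1 (hr.trans a' ha' b' hb' b hb h' (hr.symm b hb b' hb' h2)))
  exact not_commute_of_rel hr ha' ha hb' hb h3 h (hr.symm a ha a' ha' h1) (hr.symm b hb b' hb' h2) hc

theorem conj_inv_eq (hE : IsThreeTranspositionSet D) {a x : G} (ha : a ∈ D) :
    a * x * a⁻¹ = a * x * a := by rw [inv_eq hE ha]

/-- conjugation by related elements agrees modulo the relation -/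
theorem rel_conj_of_rel (hE : IsThreeTranspositionSet D) (hN : ConjClosed D) (hr : BlockSystem D r)
    {a b x : G} (ha : a ∈ D) (hb : b ∈ D) (hx : x ∈ D) (hab : r a b) :
    r (a * x * a) (b * x * b) := by
  have hax := third_mem hE hN ha hx
  have hbx := third_mem hE hN hb hx
  by_cases h : r a x
  · have h1 : r (a * x * a) a := by
      have := hr.conj a x hx a ha (hr.symm a ha x hx h)
      rw [conj_inv_eq hE ha, conj_inv_eq hE ha, mul_self hE ha, one_mul] at this
      exact this
    have hbx' : r b x := hr.trans b hb a ha x hx (hr.symm a ha b hb hab) h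
    have h2 : r (b * x * b) b := by
      have := hr.conj b x hx b hb (hr.symm b hb x hx hbx')
      rw [conj_inv_eq hE hb, conj_inv_eq hE hb, mul_self hE hb, one_mul] at this
      exact this
    exact hr.trans _ hax a ha _ hbx h1 (hr.trans a ha b hb _ hbx hab (hr.symm _ hbx b hb h2))
  · by_cases hc : Commute x a
    · have hc' : Commute x b := hr.total a ha b hb x hx hab h hc
      have e1 : a * x * a = x := by rw [← hc.eq, mul_assoc, mul_self hE ha, mul_one]
      have e2 : b * x * b = x := by rw [← hc'.eq, mul_assoc, mul_self hE hb, mul_one]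
      rw [e1, e2]
      exact hr.refl x hx
    · have hax' : ¬ Commute a x := fun h' => hc h'.symm
      have hbx' : ¬ Commute b x :=
        not_commute_of_rel hr ha hb hx hx h hax' hab (hr.refl x hx)
      rw [braid hE ha hx hax', braid hE hb hx hbx']
      have := hr.conj x a ha b hb hab
      rwa [conj_inv_eq hE hx, conj_inv_eq hE hx] at this

/-- the kernel of the action on blocks -/
def kernel (hN : ConjClosed D) (hr : BlockSystem D r) : Subgroup G where
  carrier := {g | ∀ x ∈ D, r (g * x * g⁻¹) x}
  mul_mem' := by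
    intro g h hg hh x hx
    have h1 : r (h * x * h⁻¹) x := hh x hx
    have h2 := hr.conj g _ (hN h x hx) x hx h1
    have h3 : r (g * x * g⁻¹) x := hg x hx
    have e : g * h * x * (g * h)⁻¹ = g * (h * x * h⁻¹) * g⁻¹ := by group
    rw [e]
    exact hr.trans _ (hN g _ (hN h x hx)) _ (hN g x hx) x hx h2 h3
  one_mem' := by
    intro x hx
    simpa using hr.refl x hx
  inv_mem' := by
    intro g hg x hx
    have hy : g⁻¹ * x * g⁻¹⁻¹ ∈ D := hN g⁻¹ x hx
    have h1 := hg _ hy
    have e : g * (g⁻¹ * x * g⁻¹⁻¹) * g⁻¹ = x := by group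
    rw [e] at h1
    exact hr.symm x hx _ hy h1

theorem mem_kernel {hN : ConjClosed D} {hr : BlockSystem D r} {g : G} :
    g ∈ kernel hN hr ↔ ∀ x ∈ D, r (g * x * g⁻¹) x := Iff.rfl

theorem kernel_normal (hN : ConjClosed D) (hr : BlockSystem D r) : (kernel hN hr).Normal := by
  refine ⟨fun k hk g x hx => ?_⟩
  have hy : g⁻¹ * x * g⁻¹⁻¹ ∈ D := hN g⁻¹ x hx
  have h1 := hr.conj g _ (hN k _ hy) _ hy (hk _ hy)
  have e1 : g * (k * (g⁻¹ * x * g⁻¹⁻¹) * k⁻¹) * g⁻¹ = g * k * g⁻¹ * x * (g * k * g⁻¹)⁻¹ := by group
  have e2 : g * (g⁻¹ * x * g⁻¹⁻¹) * g⁻¹ = x := by group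
  rwa [e1, e2] at h1

theorem mul_mem_kernel (hE : IsThreeTranspositionSet D) (hN : ConjClosed D) (hr : BlockSystem D r)
    {a b : G} (ha : a ∈ D) (hb : b ∈ D) (hab : r a b) : a * b ∈ kernel hN hr := by
  intro x hx
  have hax := third_mem hE hN ha hx
  have hbx := third_mem hE hN hb hx
  have h1 := rel_conj_of_rel hE hN hr ha hb hx hab
  have h2 := hr.conj a _ hbx _ hax (hr.symm _ hax _ hbx h1)
  have e1 : a * (b * x * b) * a⁻¹ = a * b * x * (a * b)⁻¹ := by
    rw [mul_inv_rev, inv_eq hE ha, inv_eq hE hb]; simp only [mul_assoc]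
  have e2 : a * (a * x * a) * a⁻¹ = x := by
    rw [inv_eq hE ha]
    calc a * (a * x * a) * a = (a * a) * x * (a * a) := by simp only [mul_assoc]
      _ = x := by rw [mul_self hE ha, one_mul, mul_one]
  rwa [e1, e2] at h2

/-- the group generated by the products of two elements of the block of `c` -/
def blockGroup (D : Set G) (r : G → G → Prop) (c : G) : Subgroup G :=
  Subgroup.closure {g | ∃ x ∈ D, ∃ y ∈ D, r x c ∧ r y c ∧ g = x * y}

theorem mul_mem_blockGroup {c x y : G} (hx : x ∈ D) (hy : y ∈ D) (hxc : r x c) (hyc : r y c) :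
    x * y ∈ blockGroup D r c := Subgroup.subset_closure ⟨x, hx, y, hy, hxc, hyc, rfl⟩

theorem blockGroup_le_kernel (hE : IsThreeTranspositionSet D) (hN : ConjClosed D)
    (hr : BlockSystem D r) {c : G} (hc : c ∈ D) : blockGroup D r c ≤ kernel hN hr := by
  rw [blockGroup, Subgroup.closure_le]
  rintro g ⟨x, hx, y, hy, hxc, hyc, rfl⟩
  exact mul_mem_kernel hE hN hr hx hy
    (hr.trans x hx c hc y hy hxc (hr.symm y hy c hc hyc))

theorem conj_mem_blockGroup (hN : ConjClosed D) (hr : BlockSystem D r)
    {c : G} (hc : c ∈ D) (g : G) {n : G} (hn : n ∈ blockGroup D r c) :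
    g * n * g⁻¹ ∈ blockGroup D r (g * c * g⁻¹) := by
  rw [blockGroup] at hn
  induction hn using Subgroup.closure_induction with
  | mem n hn =>
    obtain ⟨x, hx, y, hy, hxc, hyc, rfl⟩ := hn
    have e : g * (x * y) * g⁻¹ = (g * x * g⁻¹) * (g * y * g⁻¹) := by group
    rw [e]
    exact mul_mem_blockGroup (hN g x hx) (hN g y hy) (hr.conj g x hx c hc hxc)
      (hr.conj g y hy c hc hyc)
  | one => simp
  | mul a b _ _ iha ihb =>
    have e : g * (a * b) * g⁻¹ = (g * a * g⁻¹) * (g * b * g⁻¹) := by group
    rw [e]
    exact mul_mem iha ihb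
  | inv a _ iha =>
    have e : g * a⁻¹ * g⁻¹ = (g * a * g⁻¹)⁻¹ := by group
    rw [e]
    exact inv_mem iha

theorem blockGroup_congr (hr : BlockSystem D r) {c d : G} (hc : c ∈ D) (hd : d ∈ D)
    (h : r c d) : blockGroup D r c = blockGroup D r d := by
  unfold blockGroup
  congr 1
  ext g
  constructor
  · rintro ⟨x, hx, y, hy, hxc, hyc, rfl⟩
    exact ⟨x, hx, y, hy, hr.trans x hx c hc d hd hxc h, hr.trans y hy c hc d hd hyc h, rfl⟩
  · rintro ⟨x, hx, y, hy, hxc, hyc, rfl⟩
    have h' := hr.symm c hc d hd h
    exact ⟨x, hx, y, hy, hr.trans x hx d hd c hc hxc h', hr.trans y hy d hd c hc hyc h', rfl⟩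

theorem blockGroup_subnormal (hE : IsThreeTranspositionSet D) (hN : ConjClosed D)
    (hr : BlockSystem D r) {c : G} (hc : c ∈ D) : (blockGroup D r c).IsSubnormal := by
  refine Subgroup.IsSubnormal.step _ (kernel hN hr) (blockGroup_le_kernel hE hN hr hc)
    (kernel_normal hN hr).isSubnormal ?_
  refine ⟨?_⟩
  rintro ⟨n, _⟩ hn ⟨k, hk⟩
  rw [Subgroup.mem_subgroupOf] at hn ⊢
  have h1 := conj_mem_blockGroup hN hr hc k hn
  rw [blockGroup_congr hr (hN k c hc) hc (hk c hc)] at h1
  exact h1

/-- In a group without nontrivial solvable normal subgroups, a block system whose block groups are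
solvable is trivial. -/
theorem eq_of_rel_of_solvable [Finite G] (hsol : ∀ N : Subgroup G, N.Normal → Group.IsSolvable ↥N → N = ⊥)
    (hE : IsThreeTranspositionSet D) (hN : ConjClosed D) (hr : BlockSystem D r)
    {a b : G} (ha : a ∈ D) (hb : b ∈ D) (hs : Group.IsSolvable (blockGroup D r a)) (hab : r a b) :
    a = b := by
  obtain ⟨M, hMn, hMs, hM⟩ :=
    Cfsg.Agent.SignalizersComponents.ComponentExists.exists_normal_isSolvable_of_isSubnormal
      (blockGroup_subnormal hE hN hr ha) hs
  have hM1 := hsol M hMn hMs
  have h1 : a * b ∈ blockGroup D r a :=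
    mul_mem_blockGroup ha hb (hr.refl a ha) (hr.symm a ha b hb hab)
  have h2 : a * b ∈ (⊥ : Subgroup G) := hM1 ▸ hM h1
  rw [Subgroup.mem_bot, mul_eq_one_iff_eq_inv, inv_eq hE hb] at h2
  exact h2

/-- key computation: transitivity of the block group of `c` on a noncommuting block -/
theorem transitive_aux (hE : IsThreeTranspositionSet D) (hN : ConjClosed D) (hr : BlockSystem D r)
    {c z : G} (hc : c ∈ D) (hz : z ∈ D) (hcz : ¬ r c z) (hncz : ¬ Commute c z)
    {y y' : G} (hy : y ∈ D) (hy' : y' ∈ D) (hzy : r z y) (hzy' : r z y') :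
    ∃ x ∈ D, r x c ∧ (c * x) * y * (c * x)⁻¹ = y' := by
  -- the third point of `c`, `y'`
  set w : G := c * y' * c with hw
  have hwD : w ∈ D := third_mem hE hN hc hy'
  have hcy' : ¬ Commute c y' := not_commute_of_rel hr hc hc hz hy' hcz hncz (hr.refl c hc) hzy'
  have hwz : r w (c * z * c) := by
    have := hr.conj c y' hy' z hz (hr.symm z hz y' hy' hzy')
    rwa [conj_inv_eq hE hc, conj_inv_eq hE hc] at this
  have hczD : c * z * c ∈ D := third_mem hE hN hc hz
  -- `z` is not related to `c z c` and does not commute with it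
  have h1 : ¬ r z (c * z * c) := by
    intro h
    rw [braid hE hc hz hncz] at h
    -- r z (z c z); conjugate by z : r z c
    have h2 := hr.conj z z hz _ (third_mem hE hN hz hc) h
    rw [conj_inv_eq hE hz, conj_inv_eq hE hz, mul_self hE hz, one_mul] at h2
    have e : z * (z * c * z) * z = c := by
      calc z * (z * c * z) * z = (z * z) * c * (z * z) := by simp only [mul_assoc]
        _ = c := by rw [mul_self hE hz, one_mul, mul_one]
    rw [e] at h2
    exact hcz (hr.symm z hz c hc h2)
  have h2 : ¬ Commute z (c * z * c) := not_commute_third' hE hc hz hncz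
  have h3 : ¬ Commute y w := not_commute_of_rel hr hz hy hczD hwD h1 h2 hzy (hr.symm w hwD _ hczD hwz)
  refine ⟨y * w * y, third_mem hE hN hy hwD, ?_, ?_⟩
  · -- `y w y = (y y') c (y y')⁻¹`
    have h4 : r (y * w * y) (y' * w * y') :=
      rel_conj_of_rel hE hN hr hy hy' hwD (hr.trans y hy z hz y' hy' (hr.symm z hz y hy hzy) hzy')
    have e : y' * w * y' = c := by
      rw [hw, braid hE hc hy' hcy']
      calc y' * (y' * c * y') * y' = (y' * y') * c * (y' * y') := by simp only [mul_assoc]
        _ = c := by rw [mul_self hE hy', one_mul, mul_one]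
    rwa [e] at h4
  · have hxD : y * w * y ∈ D := third_mem hE hN hy hwD
    rw [mul_inv_rev, inv_eq hE hc, inv_eq hE hxD]
    have e1 : (y * w * y) * y * (y * w * y) = w := by
      calc (y * w * y) * y * (y * w * y) = y * w * (y * y) * y * w * y := by simp only [mul_assoc]
        _ = y * (w * y * w) * y := by rw [mul_self hE hy, mul_one]; simp only [mul_assoc]
        _ = y * (y * w * y) * y := by rw [← braid hE hy hwD h3]
        _ = (y * y) * w * (y * y) := by simp only [mul_assoc]
        _ = w := by rw [mul_self hE hy, one_mul, mul_one]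
    calc c * (y * w * y) * y * (y * w * y * c) = c * ((y * w * y) * y * (y * w * y)) * c := by
          simp only [mul_assoc]
      _ = c * (c * y' * c) * c := by rw [e1]
      _ = (c * c) * y' * (c * c) := by simp only [mul_assoc]
      _ = y' := by rw [mul_self hE hc, one_mul, mul_one]

/-- elements of `blockGroup c` centralising the block of `z` -/
def fixer (D : Set G) (r : G → G → Prop) (c z : G) : Subgroup (blockGroup D r c) where
  carrier := {n | ∀ y ∈ D, r z y → Commute (n : G) y}
  mul_mem' := by
    intro a b ha hb y hy hzy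
    exact (ha y hy hzy).mul_left (hb y hy hzy)
  one_mem' := by
    intro y _ _
    exact Commute.one_left y
  inv_mem' := by
    intro a ha y hy hzy
    exact (ha y hy hzy).inv_left

theorem mem_fixer {c z : G} {n : blockGroup D r c} :
    n ∈ fixer D r c z ↔ ∀ y ∈ D, r z y → Commute (n : G) y := Iff.rfl

theorem fixer_normal (hE : IsThreeTranspositionSet D) (hN : ConjClosed D) (hr : BlockSystem D r)
    {c z : G} (hc : c ∈ D) (hz : z ∈ D) : (fixer D r c z).Normal := by
  refine ⟨?_⟩
  intro n hn m y hy hzy
  have hmK : (m : G)⁻¹ ∈ kernel hN hr := inv_mem (blockGroup_le_kernel hE hN hr hc m.2)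
  have h1 : r ((m : G)⁻¹ * y * (m : G)⁻¹⁻¹) y := hmK y hy
  have h2 : (m : G)⁻¹ * y * (m : G)⁻¹⁻¹ ∈ D := hN _ y hy
  have h3 : Commute (n : G) ((m : G)⁻¹ * y * (m : G)⁻¹⁻¹) :=
    hn _ h2 (hr.trans z hz y hy _ h2 hzy (hr.symm _ h2 y hy h1))
  have h4 := (commute_conj_iff (m : G)).2 h3
  have e : (m : G) * ((m : G)⁻¹ * y * (m : G)⁻¹⁻¹) * (m : G)⁻¹ = y := by group
  rw [e] at h4
  exact h4

/-- if `c`, `c'` are in different commuting blocks, and `z` commutes with neither, then
`blockGroup c` modulo the fixer of the block of `z` has all elements of order at most 3 -/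
theorem quotient_pow (hE : IsThreeTranspositionSet D) (hN : ConjClosed D) (hr : BlockSystem D r)
    {c c' z : G} (hc : c ∈ D) (hc' : c' ∈ D) (hz : z ∈ D) (hcc' : ¬ r c c') (hcomm : Commute c c')
    (h1 : ¬ Commute c z) (h2 : ¬ Commute c' z) (n : blockGroup D r c) :
    n ^ 2 ∈ fixer D r c z ∨ n ^ 3 ∈ fixer D r c z := by
  have hcz : ¬ r c z := by
    intro h
    exact h2 (hr.total c hc z hz c' hc' h hcc' hcomm.symm)
  have hc'z : ¬ r c' z := by
    intro h
    exact h1 (hr.total c' hc' z hz c hc h (fun h' => hcc' (hr.symm c' hc' c hc h')) hcomm)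
  have hnK : (n : G) ∈ kernel hN hr := blockGroup_le_kernel hE hN hr hc n.2
  -- the image of `z`
  have hzn : r z ((n : G) * z * (n : G)⁻¹) :=
    hr.symm _ (hN n z hz) z hz (hnK z hz)
  obtain ⟨x, hx, hxc, hxz⟩ := transitive_aux hE hN hr hc hz hcz h1 hz (hN n z hz) (hr.refl z hz) hzn
  have hcx : c * x ∈ blockGroup D r c := mul_mem_blockGroup hc hx (hr.refl c hc) hxc
  -- `m = (c x)⁻¹ n` commutes with `z`
  set m : blockGroup D r c := (⟨c * x, hcx⟩ : blockGroup D r c)⁻¹ * n with hm
  have hmz : Commute (m : G) z := by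
    rw [← conj_eq_self_iff]
    have : (m : G) = (c * x)⁻¹ * n := rfl
    rw [this]
    calc (c * x)⁻¹ * (n : G) * z * ((c * x)⁻¹ * (n : G))⁻¹
        = (c * x)⁻¹ * ((n : G) * z * (n : G)⁻¹) * (c * x) := by group
      _ = (c * x)⁻¹ * ((c * x) * z * (c * x)⁻¹) * (c * x) := by rw [hxz]
      _ = z := by group
  -- hence with the whole block of `z`
  have hmfix : m ∈ fixer D r c z := by
    intro y hy hzy
    obtain ⟨x', hx', hx'c', hx'y⟩ :=
      transitive_aux hE hN hr hc' hz hc'z h2 hz hy (hr.refl z hz) hzy
    -- `m` commutes with `c' x'`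
    have hcomm' : ∀ g ∈ blockGroup D r c, ∀ u ∈ D, r u c' → Commute g u := by
      intro g hg u hu huc'
      rw [blockGroup] at hg
      induction hg using Subgroup.closure_induction with
      | mem g hg =>
        obtain ⟨s, hs, t, ht, hsc, htc, rfl⟩ := hg
        have e1 := commute_of_rel hr hc hs hc' hu hcc' hcomm (hr.symm s hs c hc hsc)
          (hr.symm u hu c' hc' huc')
        have e2 := commute_of_rel hr hc ht hc' hu hcc' hcomm (hr.symm t ht c hc htc)
          (hr.symm u hu c' hc' huc')
        exact e1.mul_left e2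
      | one => exact Commute.one_left u
      | mul a b _ _ iha ihb => exact iha.mul_left ihb
      | inv a _ iha => exact iha.inv_left
    have h3 : Commute (m : G) (c' * x') :=
      (hcomm' m m.2 c' hc' (hr.refl c' hc')).mul_right (hcomm' m m.2 x' hx' hx'c')
    rw [← hx'y]
    exact (h3.mul_right hmz).mul_right h3.inv_right
  have hfn := fixer_normal hE hN hr hc hz
  -- `n = (c x) m`, so modulo the fixer `n = c x`
  have hn : n = (⟨c * x, hcx⟩ : blockGroup D r c) * m := by rw [hm]; group
  have hq : (QuotientGroup.mk n : blockGroup D r c ⧸ fixer D r c z)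
      = QuotientGroup.mk (⟨c * x, hcx⟩ : blockGroup D r c) := by
    rw [hn, QuotientGroup.mk_mul, (QuotientGroup.eq_one_iff m).2 hmfix, mul_one]
  rcases hE.2 c hc x hx with h4 | h4
  · left
    rw [← QuotientGroup.eq_one_iff, QuotientGroup.mk_pow, hq, ← QuotientGroup.mk_pow]
    have : (⟨c * x, hcx⟩ : blockGroup D r c) ^ 2 = 1 := Subtype.ext h4
    rw [this]; rfl
  · right
    rw [← QuotientGroup.eq_one_iff, QuotientGroup.mk_pow, hq, ← QuotientGroup.mk_pow]
    have : (⟨c * x, hcx⟩ : blockGroup D r c) ^ 3 = 1 := Subtype.ext h4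
    rw [this]; rfl

theorem solvable_blockGroup [Finite G] (hD : IsThreeTranspositionClass D) (hr : BlockSystem D r)
    {c c' : G} (hc : c ∈ D) (hc' : c' ∈ D) (hcc' : ¬ r c c') (hcomm : Commute c c') :
    Group.IsSolvable (blockGroup D r c) := by
  have hE := hD.1
  have hN := conjClosed_of_class hD
  have hne : c ≠ c' := by
    rintro rfl; exact hcc' (hr.refl c hc)
  obtain ⟨z, hz, h1, h2⟩ := exists_not_commute hD hc hc' hne hcomm
  have hcz : ¬ r c z := by
    intro h
    exact h2 (hr.total c hc z hz c' hc' h hcc' hcomm.symm)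
  set w : G := c * z * c with hw
  have hwD : w ∈ D := third_mem hE hN hc hz
  have h1w : ¬ Commute c w := not_commute_third hE hc h1
  have h2w : ¬ Commute c' w := not_commute_of_commute hE hc hcomm.symm h2
  have hn1 := fixer_normal hE hN hr hc hz
  have hn2 := fixer_normal hE hN hr hc hwD
  have hs1 : Group.IsSolvable (blockGroup D r c ⧸ fixer D r c z) := by
    apply Cfsg.Agent.ThreeTrans375.Solv23.solvable_of_pow
    intro q
    induction q using QuotientGroup.induction_on with
    | H n =>
      rcases quotient_pow hE hN hr hc hc' hz hcc' hcomm h1 h2 n with h | h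
      · left; rw [← QuotientGroup.mk_pow]; exact (QuotientGroup.eq_one_iff _).2 h
      · right; rw [← QuotientGroup.mk_pow]; exact (QuotientGroup.eq_one_iff _).2 h
  have hs2 : Group.IsSolvable (blockGroup D r c ⧸ fixer D r c w) := by
    apply Cfsg.Agent.ThreeTrans375.Solv23.solvable_of_pow
    intro q
    induction q using QuotientGroup.induction_on with
    | H n =>
      rcases quotient_pow hE hN hr hc hc' hwD hcc' hcomm h1w h2w n with h | h
      · left; rw [← QuotientGroup.mk_pow]; exact (QuotientGroup.eq_one_iff _).2 h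
      · right; rw [← QuotientGroup.mk_pow]; exact (QuotientGroup.eq_one_iff _).2 h
  -- the intersection of the fixers is central
  have hcentral : ∀ n : blockGroup D r c, n ∈ fixer D r c z → n ∈ fixer D r c w →
      ∀ g ∈ blockGroup D r c, Commute (n : G) g := by
    intro n hnz hnw g hg
    have hblock : ∀ x ∈ D, r x c → Commute (n : G) x := by
      intro x hx hxc
      -- `x z x` is related to `w = c z c`
      have h3 : r (x * z * x) w := rel_conj_of_rel hE hN hr hx hc hz hxc
      have hxz : ¬ Commute x z :=
        not_commute_of_rel hr hc hx hz hz hcz h1 (hr.symm x hx c hc hxc) (hr.refl z hz)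
      have h4 : Commute (n : G) (x * z * x) :=
        hnw _ (third_mem hE hN hx hz) (hr.symm _ (third_mem hE hN hx hz) w hwD h3)
      have h5 : Commute (n : G) z := hnz z hz (hr.refl z hz)
      rw [braid hE hx hz hxz] at h4
      have e : x = z * (z * x * z) * z := by
        calc x = (z * z) * x * (z * z) := by rw [mul_self hE hz, one_mul, mul_one]
          _ = z * (z * x * z) * z := by simp only [mul_assoc]
      rw [e]
      exact (h5.mul_right h4).mul_right h5
    rw [blockGroup] at hg
    induction hg using Subgroup.closure_induction with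
    | mem g hg =>
      obtain ⟨s, hs, t, ht, hsc, htc, rfl⟩ := hg
      exact (hblock s hs hsc).mul_right (hblock t ht htc)
    | one => exact Commute.one_right _
    | mul a b _ _ iha ihb => exact iha.mul_right ihb
    | inv a _ iha => exact iha.inv_right
  let f : blockGroup D r c →* (blockGroup D r c ⧸ fixer D r c z) × (blockGroup D r c ⧸ fixer D r c w) :=
    (QuotientGroup.mk' _).prod (QuotientGroup.mk' _)
  have hker : Group.IsSolvable f.ker := by
    apply Group.isSolvable_of_comm
    rintro ⟨a, ha⟩ ⟨b, hb⟩
    apply Subtype.ext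
    apply Subtype.ext
    have ha' : f a = 1 := ha
    have h3 : (QuotientGroup.mk a : blockGroup D r c ⧸ fixer D r c z) = 1 := congrArg Prod.fst ha'
    have h4 : (QuotientGroup.mk a : blockGroup D r c ⧸ fixer D r c w) = 1 := congrArg Prod.snd ha'
    exact (hcentral a ((QuotientGroup.eq_one_iff a).1 h3) ((QuotientGroup.eq_one_iff a).1 h4) b b.2).eq
  exact Group.isSolvable_of_ker_le_range f.ker.subtype f (by rw [Subgroup.range_subtype])

/-- THE BLOCK THEOREM: a block system with two different commuting blocks is trivial if `G` has no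
nontrivial solvable normal subgroup. -/
theorem eq_of_rel [Finite G] (hsol : ∀ N : Subgroup G, N.Normal → Group.IsSolvable ↥N → N = ⊥)
    (hD : IsThreeTranspositionClass D) (hr : BlockSystem D r)
    {c c' : G} (hc : c ∈ D) (hc' : c' ∈ D) (hcc' : ¬ r c c') (hcomm : Commute c c')
    {a b : G} (ha : a ∈ D) (hb : b ∈ D) (hab : r a b) : a = b := by
  have hE := hD.1
  have hN := conjClosed_of_class hD
  obtain ⟨g, hg⟩ := exists_conj_of_class hD ha hc
  have h1 := hr.conj g a ha b hb hab
  rw [hg] at h1
  have h2 := eq_of_rel_of_solvable hsol hE hN hr hc (hN g b hb)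
    (solvable_blockGroup hD hr hc hc' hcc' hcomm) h1
  rw [← hg] at h2
  exact mul_left_cancel (mul_right_cancel h2)

/-- Two members with the same commuting members are equal (if there are any commuting members). -/
theorem eq_of_Dc_eq [Finite G] (hsol : ∀ N : Subgroup G, N.Normal → Group.IsSolvable ↥N → N = ⊥)
    (hD : IsThreeTranspositionClass D) {a b : G} (ha : a ∈ D) (hb : b ∈ D)
    (hne : (Dc D a).Nonempty) (hab : Dc D a = Dc D b) : a = b := by
  have hE := hD.1
  have hN := conjClosed_of_class hD
  obtain ⟨d, hdD, hda, hcomm⟩ := hne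
  have hr : BlockSystem D (fun a b => Dc D a = Dc D b) :=
    { refl := fun _ _ => rfl
      symm := fun _ _ _ _ h => h.symm
      trans := fun _ _ _ _ _ _ h h' => h.trans h'
      conj := by
        intro g a _ b _ h
        have key : ∀ c : G, Dc D (g * c * g⁻¹) = (fun x => g * x * g⁻¹) '' Dc D c := by
          intro c
          ext x
          constructor
          · rintro ⟨hxD, hxc, hxcomm⟩
            refine ⟨g⁻¹ * x * g⁻¹⁻¹, ⟨hN g⁻¹ x hxD, ?_, ?_⟩, by group⟩
            · intro h; apply hxc; rw [← h]; group
            · have := (commute_conj_iff g⁻¹).2 hxcomm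
              have e : g⁻¹ * (g * c * g⁻¹) * g⁻¹⁻¹ = c := by group
              rwa [e] at this
          · rintro ⟨y, ⟨hyD, hyc, hycomm⟩, rfl⟩
            refine ⟨hN g y hyD, ?_, (commute_conj_iff g).2 hycomm⟩
            intro h; exact hyc (mul_left_cancel (mul_right_cancel h))
        rw [key, key, h]
      total := by
        intro a _ b _ x hx h hax hcomm
        have h1 : x ≠ a := by rintro rfl; exact hax rfl
        have h2 : x ∈ Dc D a := ⟨hx, h1, hcomm.symm⟩
        rw [h] at h2
        exact h2.2.2.symm }
  refine eq_of_rel hsol hD hr ha hdD ?_ hcomm ha hb hab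
  intro h
  have : d ∈ Dc D d := by rw [← h]; exact ⟨hdD, hda, hcomm⟩
  exact this.2.1 rfl

/-- Two members commuting with exactly the same members are equal. -/
theorem eq_of_noncomm_eq [Finite G] (hsol : ∀ N : Subgroup G, N.Normal → Group.IsSolvable ↥N → N = ⊥)
    (hD : IsThreeTranspositionClass D) {a b : G} (ha : a ∈ D) (hb : b ∈ D)
    (hab : ∀ x ∈ D, Commute a x ↔ Commute b x) : a = b := by
  have hE := hD.1
  have hN := conjClosed_of_class hD
  have hr : BlockSystem D (fun a b => ∀ x ∈ D, Commute a x ↔ Commute b x) :=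
    { refl := fun _ _ _ _ => Iff.rfl
      symm := fun _ _ _ _ h x hx => (h x hx).symm
      trans := fun _ _ _ _ _ _ h h' x hx => (h x hx).trans (h' x hx)
      conj := by
        intro g a _ b _ h x hx
        have h1 := h (g⁻¹ * x * g⁻¹⁻¹) (hN g⁻¹ x hx)
        have e : x = g * (g⁻¹ * x * g⁻¹⁻¹) * g⁻¹ := by group
        rw [e, commute_conj_iff, commute_conj_iff]
        exact h1
      total := by
        intro a _ b _ x hx h _ hcomm
        exact ((h x hx).1 hcomm.symm).symm }
  refine eq_of_rel_of_solvable hsol hE hN hr ha hb ?_ hab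
  -- the block group is commutative
  have hcommD : ∀ x ∈ D, (∀ u ∈ D, Commute x u ↔ Commute a u) → ∀ y ∈ D,
      (∀ u ∈ D, Commute y u ↔ Commute a u) → Commute x y := by
    intro x hx hxa y hy hya
    rw [hxa y hy, ← hya y hy]
  apply Group.isSolvable_of_comm
  have key : ∀ g ∈ blockGroup D (fun a b => ∀ x ∈ D, Commute a x ↔ Commute b x) a,
      ∀ y ∈ D, (∀ u ∈ D, Commute y u ↔ Commute a u) → Commute g y := by
    intro g hg y hy hya
    rw [blockGroup] at hg
    induction hg using Subgroup.closure_induction with
    | mem g hg =>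
      obtain ⟨s, hs, t, ht, hsc, htc, rfl⟩ := hg
      exact (hcommD s hs hsc y hy hya).mul_left (hcommD t ht htc y hy hya)
    | one => exact Commute.one_left _
    | mul a b _ _ iha ihb => exact iha.mul_left ihb
    | inv a _ iha => exact iha.inv_left
  rintro ⟨g, hg⟩ ⟨h, hh⟩
  apply Subtype.ext
  show g * h = h * g
  have : Commute g h := by
    rw [blockGroup] at hh
    induction hh using Subgroup.closure_induction with
    | mem h hh =>
      obtain ⟨s, hs, t, ht, hsc, htc, rfl⟩ := hh
      exact (key g hg s hs hsc).mul_right (key g hg t ht htc)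
    | one => exact Commute.one_right _
    | mul a b _ _ iha ihb => exact iha.mul_right ihb
    | inv a _ iha => exact iha.inv_right
  exact this

end Cfsg.Agent.ThreeTrans375.Blocks
end
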